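import Groth.Agent.Lib.AdjArith15.Div
import Groth.Agent.S8656
import Groth.Agent.S8919
import Groth.Agent.Lib.ProjDual12.CMDuality
import Groth.Agent.Lib.ProjDual12.Dualizing
import Groth.Agent.Lib.FundIso12.Omega
import Groth.Agent.Lib.Euler2.PnDet
import Groth.Agent.Lib.Snapper.Vanish
import Groth.Agent.Lib.SmDim19.RelDimVariety
import Groth.Agent.Lib.VB17.Proper
import Groth.Agent.Lib.VB17.Duality
import Groth.Agent.Lib.EnriquesSeveri11.DualSeq
import Mathlib.RingTheory.KrullDimension.Regular
import Mathlib.RingTheory.Regular.Flat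

/-! The degree of the canonical sheaf of an integral projective curve which is a local complete
intersection over a field. -/

set_option autoImplicit false
set_option linter.style.haveILetI false
set_option backward.isDefEq.respectTransparency false
set_option backward.isDefEq.respectTransparency.types false
set_option synthInstance.maxHeartbeats 400000
set_option maxHeartbeats 1600000
universe u
open CategoryTheory CategoryTheory.Limits AlgebraicGeometry Opposite RingTheory.Sequence

namespace Groth.Agent.CanDeg15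
open Groth.Agent

/-- The codimension of a regular closed immersion at a point is the drop of dimension. -/
theorem dim_add_codim {Z P : Scheme.{u}} (j : Z ⟶ P) [IsClosedImmersion j] [IsLocallyNoetherian P] {c : ℕ}
    (hj : RegImm.IsRegularImmersionOfCodim .regular c j) (z : Z) :
    ringKrullDim (Z.presheaf.stalk z) + (c : WithBot ℕ∞) = ringKrullDim (P.presheaf.stalk (j z)) := by
  obtain ⟨U, hzU, hcl, rs, hlen, hrs, hker⟩ := hj.2 z
  haveI := hcl
  letI := P.presheaf.algebra_section_stalk (U := U.1) ⟨j z, hzU⟩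
  haveI := U.2.isLocalization_stalk ⟨j z, hzU⟩
  let S := P.presheaf.stalk (j z)
  let xs : List S := rs.map (algebraMap Γ(P, U.1) S)
  have hxs : RingHom.ker (j.stalkMap z).hom = Ideal.ofList xs := by
    rw [RegImm26.ker_stalkMap_eq j z U.2 hzU, hker, Ideal.map_ofList]
    rfl
  have hw : IsWeaklyRegular S xs :=
    IsWeaklyRegular.of_isLocalization S (U.2.primeIdealOf ⟨j z, hzU⟩).asIdeal.primeCompl hrs.toIsWeaklyRegular
  have hreg : IsRegular S xs := ⟨hw, fun h => by
    rw [smul_eq_mul, Ideal.mul_top, ← hxs] at h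
    exact RingHom.ker_ne_top (j.stalkMap z).hom h.symm⟩
  have h := ringKrullDim_add_length_eq_ringKrullDim_of_isRegular xs hreg
  rw [ringKrullDim_eq_of_ringEquiv ((Ideal.quotEquivOfEq hxs.symm).trans
      (RingHom.quotientKerEquivOfSurjective (SurjectiveOnStalks.stalkMap_surjective (f := j) z))),
    show xs.length = c by simp [xs, hlen]] at h
  exact h

/-- The canonical sheaf of an integral projective local complete intersection curve has degree
`-2χ(O)`. -/
theorem exists_canonical_deg (k : Type u) [Field k] {N : ℕ} {Y : Scheme.{u}} [Y.Over (Spec (CommRingCat.of k))]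
    [IsProper (Y ↘ Spec (CommRingCat.of k))]
    [IsIntegral Y] (hdim : topologicalKrullDim Y = 1) (j : Y ⟶ CohB1.ProjSpace N k) [IsClosedImmersion j]
    (hj : j ≫ CohB1.ProjSpace.toSpec N k = Y ↘ Spec (CommRingCat.of k))
    (hk : ∀ y : Y, Synt.IsKoszulAt (Y ↘ Spec (CommRingCat.of k)) y) :
    ∃ ω : Y.Modules, Canon.IsCanonical (Y ↘ Spec (CommRingCat.of k)) ω ∧ PicF.IsInvertible ω ∧
      ArSurf.curveDeg k Y ω = -2 * FGA.eulerCharLE k Y (Coh.structureModule Y) 1 := by
  haveI : IsLocallyNoetherian (CohB1.ProjSpace N k) := CohFound.ProjNum.isLocallyNoetherian_projSpace N k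
  haveI := CMReg18.isProper_projSpace k (n := N)
  haveI := ProjSpace.smoothOfRelativeDimension_toSpec N k
  haveI : Smooth (CohB1.ProjSpace.toSpec N k) := SmoothOfRelativeDimension.smooth N _
  haveI : QuasiSeparated (CohB1.ProjSpace.toSpec N k) := inferInstance
  have hcl := VB17.curveLike (k := k) hdim
  haveI := hcl.noetherian
  have hkosz := S8656.result (Y ↘ Spec (CommRingCat.of k)) hk (CohB1.ProjSpace.toSpec N k) j hj
  obtain ⟨c, hc⟩ := VB17.exists_rank_of_isFinLocFree'
    (S8919.isFinLocFree_conormal_of_h1 j (SmImm2.h1_of_koszul hkosz))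
  have hjc : RegImm.IsRegularImmersionOfCodim .regular c j :=
    SmImm2.isRegularImmersionOfCodim_of_rank j (RegImm26.regular_of_koszul j hkosz) hc
  have hdim' : topologicalKrullDim Y = ((1 : ℕ) : WithBot ℕ∞) := by rw [hdim]; rfl
  obtain ⟨z, -, hz⟩ := (isClosed_univ (X := Y)).exists_closed_singleton Set.univ_nonempty
  have hN : 1 + c = N := by
    have h := dim_add_codim j hjc z
    rw [SmDim19.ringKrullDim_stalk_closed (Y ↘ Spec (CommRingCat.of k)) hdim' hz,
      ES11.ringKrullDim_stalk_closed k N (j z) (by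
        simpa using j.isClosedEmbedding.isClosedMap _ hz)] at h
    exact_mod_cast h
  let O := Coh.structureModule Y
  let T := Twist.twistProjSpace N k (-((N : ℤ) + 1))
  have hT : PicF.IsInvertible T := Twist.isInvertible_twistProjSpace N k _
  haveI : Coh.IsQCoh (Omega.conormal j) := M1.isQCoh_pullback j (M2.isQCoh_idealMod _)
  let L := Wedge2.extMod c (Omega.conormal j)
  have hL := Wedge2.isExtPow_extMod c (Omega.conormal j)
  have hLi := FundIso12.isInvertible_det j hjc hL
  obtain ⟨D, hD, ⟨t₀⟩⟩ := M2.exists_inverse hLi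
  obtain ⟨eD⟩ := ES11.nonempty_dual_iso_of_inverse hLi t₀
  let ω := CohB1.tensorMod ((Scheme.Modules.pullback j).obj T) D
  have hω : PicF.IsInvertible ω := M2.isInvertible_tensor (PicLoc.isInvertible_pullback j hT) hD
  have hΩ : FlatMod.IsFinLocFreeOfRank N (Omega.sheaf (CohB1.ProjSpace.toSpec N k)) :=
    Omega12.isFinLocFreeOfRank_receptacle_of_smooth (f := CohB1.ProjSpace.toSpec N k)
      (Omega12.isUniversal_dOmega (f := CohB1.ProjSpace.toSpec N k)) N
  haveI : Coh.IsQCoh (Omega.sheaf (CohB1.ProjSpace.toSpec N k)) :=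
    M2.isQCoh_of_isFinLocFree (SmImm2.isFinLocFree_of_rank hΩ)
  let DΩ := Wedge2.extMod N (Omega.sheaf (CohB1.ProjSpace.toSpec N k))
  have hDΩ := Wedge2.isExtPow_extMod N (Omega.sheaf (CohB1.ProjSpace.toSpec N k))
  obtain ⟨eΩ⟩ := Euler2.nonempty_det_omega_projSpace N k hDΩ
  have eT : DΩ ≅ T := eΩ ≪≫ eqToIso (by simp only [T, neg_add, sub_eq_add_neg])
  refine ⟨ω, ⟨_, j, CohB1.ProjSpace.toSpec N k, c, N, hj, hjc, inferInstance, inferInstance, inferInstance,
    L, DΩ, hL, hDΩ, ⟨M2.tensorAssoc _ D L ≪≫ M2.tensorIso (Iso.refl _) (M2.tensorComm D L ≪≫ t₀) ≪≫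
      M2.tensorComm _ _ ≪≫ M2.tensorLUnit _ ≪≫ (Scheme.Modules.pullback j).mapIso eT.symm⟩⟩, hω, ?_⟩
  haveI : ModSite.HasSheafHom (O := (CohB1.ProjSpace N k).sheaf) ((Scheme.Modules.pushforward j).obj O) :=
    CohMop.isLeftAdjoint_tenR _
  haveI : EnoughInjectives (CohB1.ProjSpace N k).Modules := inferInstance
  haveI : HasInjectiveResolutions (ModSite.Mod (CohB1.ProjSpace N k).sheaf) :=
    inferInstanceAs (HasInjectiveResolutions (CohB1.ProjSpace N k).Modules)
  obtain ⟨v⟩ := FundIso12.nonempty_ext_iso_dual j hjc hL (Twist.isQCoh_of_isInvertible hT)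
  obtain ⟨t, ht⟩ := ProjDual12.exists_dualizing_trace j hj (n := 1) (by omega) hdim'.le ω
    ⟨(Scheme.Modules.pushforward j).mapIso (M2.tensorIso (Iso.refl _) eD.symm) ≪≫ v ≪≫
      eqToIso (by rw [show N - 1 = c by omega])⟩
  haveI : EnoughInjectives Y.Modules := inferInstance
  haveI : HasExt.{u} Y.Modules := hasExt_of_enoughInjectives.{u} _
  have hωc := Snapper.isCoh_of_isInvertible hω
  have hOi : PicF.IsInvertible O := PicLoc.isInvertible_structureModule _
  have hOc : Coh.IsCoh O := Snapper.isCoh_of_isInvertible hOi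
  have key : ∀ (F M : Y.Modules), PicF.IsInvertible F → (CohB1.tensorMod M F ≅ O) →
      Module.finrank k (Coh.HH Y F 1) = Module.finrank k (Coh.HH Y (CohB1.tensorMod ω M) 0) := by
    intro F M hF e
    obtain ⟨E⟩ := ProjDual12.nonempty_ext_dual j t hj hωc ht (s := 0) (fun q hq hq' => absurd hq' (by omega))
      (Snapper.isCoh_of_isInvertible hF) (i := 0) (q := 1) le_rfl rfl
    obtain ⟨e₃⟩ := ProjDual12.nonempty_ext_linearEquiv_HH (k := k) (M2.isFinLocFree_of_isInvertible hF) ω 0
    obtain ⟨i⟩ := ProjDual12.nonempty_ihom_invertible_iso hF e ω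
    have h := (e₃ ≪≫ₗ CurveCoh17.hequiv k i 0).finrank_eq
    rw [E.finrank_eq, Subspace.dual_finrank_eq] at h
    exact h
  obtain ⟨M, -, ⟨em⟩⟩ := M2.exists_inverse hω
  have h1 := key O O hOi (M2.tensorLUnit O)
  rw [(CurveCoh17.hequiv k (M2.tensorRUnit ω) 0).finrank_eq] at h1
  have h2 := key ω M hω (M2.tensorComm M ω ≪≫ em)
  rw [(CurveCoh17.hequiv k em 0).finrank_eq] at h2
  have h1' : Module.finrank k (Coh.HH Y (Coh.structureModule Y) 1) = Module.finrank k (Coh.HH Y ω 0) := h1
  have h2' : Module.finrank k (Coh.HH Y ω 1) = Module.finrank k (Coh.HH Y (Coh.structureModule Y) 0) := h2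
  simp only [ArSurf.curveDeg, FGA.eulerCharLE, Finset.sum_range_succ, Finset.sum_range_zero, h1', h2']
  ring

end Groth.Agent.CanDeg15
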