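import Groth.Prelude.Def_Canon
import Groth.Agent.Lib.SmImm2.CompSeq
import Groth.Agent.Lib.ProjSpace.Basic
import Groth.Agent.Lib.TensorMod.PullTensor
import Groth.Agent.Lib.RegImm26.Apps
import Groth.Agent.S15539
import Groth.Agent.S8906
import Groth.Agent.S8919
import Groth.Agent.S8654
import Groth.Agent.S8656
import Mathlib.AlgebraicGeometry.Noetherian
import Groth.Agent.S13306

/-! Canonical sheaves of composites. -/

set_option autoImplicit false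
set_option backward.isDefEq.respectTransparency false
set_option backward.isDefEq.respectTransparency.types false
set_option synthInstance.maxHeartbeats 400000
set_option maxHeartbeats 1600000
universe u
open CategoryTheory CategoryTheory.Limits AlgebraicGeometry

namespace Groth.Agent.AdjArith15

open Groth.Agent S13306

theorem isCanonical_comp {X Y Z : Scheme.{u}} [Nonempty X] (f : X ⟶ Y) (g : Y ⟶ Z)
    [IsLocallyNoetherian Y] [IsLocallyNoetherian Z]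
    (hf : (∃ (m : ℕ) (j : X ⟶ CohB1.ProjSpaceOver m Y), IsImmersion j ∧ j ≫ CohB1.ProjSpaceOver.toBase m Y = f))
    {ω₁ : X.Modules} {ω₂ : Y.Modules}
    (h₁ : Canon.IsCanonical f ω₁) (h₂ : Canon.IsCanonical g ω₂) :
    Canon.IsCanonical (f ≫ g) (CohB1.tensorMod ω₁ ((Scheme.Modules.pullback f).obj ω₂)) := by
  obtain ⟨m, j, hjimm, hj⟩ := hf
  haveI := hjimm
  obtain ⟨Z₁, i₁, g₁, c₁, n₁, hfac₁, hi₁, hg₁, hqc₁, hqs₁, hvia₁⟩ := h₁
  obtain ⟨Z₂, i₂, g₂, c₂, n₂, hfac₂, hi₂, hg₂, hqc₂, hqs₂, D₂, W₂, hD₂, hW₂, ⟨a₂⟩⟩ := h₂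
  haveI := hg₁; haveI := hqc₁; haveI := hqs₁
  haveI := hg₂; haveI := hqc₂; haveI := hqs₂
  haveI : IsImmersion i₁ := hi₁.1
  haveI : IsImmersion i₂ := hi₂.1
  haveI : Smooth g₁ := SmoothOfRelativeDimension.smooth n₁ g₁
  haveI : Smooth g₂ := SmoothOfRelativeDimension.smooth n₂ g₂
  -- the first immersion into projective space
  let π := CohB1.ProjSpaceOver.toBase m Y
  haveI : SmoothOfRelativeDimension m π := smoothDim_toBase m Y
  haveI : Smooth π := SmoothOfRelativeDimension.smooth m π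
  haveI : IsLocallyNoetherian (CohB1.ProjSpaceOver m Y) := LocallyOfFiniteType.isLocallyNoetherian π
  haveI : QuasiCompact j := by rw [← j.liftCoborder_ι]; infer_instance
  haveI : IsLocallyNoetherian Z₂ := LocallyOfFiniteType.isLocallyNoetherian g₂
  have hjw : i₁ ≫ g₁ = j ≫ π := hfac₁.trans hj.symm
  haveI : IsIso (⊤ : X.Opens).ι := isIso_of_isOpenImmersion_of_opensRange_eq_top _ (Scheme.Opens.opensRange_ι _)
  have hkosz : RegImm.IsRegularImmersion .koszul j := S8656.result f (fun x => by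
    refine ⟨⊤, Z₁, (⊤ : X.Opens).ι ≫ i₁, g₁, trivial, ?_, ?_, inferInstance, by rw [Category.assoc, hfac₁]⟩
    · haveI : LocallyOfFiniteType f := hj ▸ inferInstanceAs (LocallyOfFiniteType (j ≫ π))
      infer_instance
    · exact SmImm2.koszul_of_regular (SmImm2.forget_codim
        (SmImm2.isRegularImmersionOfCodim_iso_comp (⊤ : X.Opens).ι i₁ hi₁))) π j hj
  have hjh1 := SmImm2.h1_of_koszul hkosz
  obtain ⟨cj, hCj⟩ : ∃ cj, FlatMod.IsFinLocFreeOfRank cj (Omega.conormal j) :=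
    ⟨_, SmImm2.exists_rank_conormal_second i₁ g₁ j π hjw (SmImm2.isFinLocFreeOfRank_conormal i₁ hi₁)
      (S8919.isFinLocFree_conormal_of_h1 j hjh1) (n := n₁) (m := m)⟩
  have hjc : RegImm.IsRegularImmersionOfCodim .regular cj j :=
    SmImm2.isRegularImmersionOfCodim_of_rank j ((RegImm26.regular_iff_quasi j).2 (SmImm2.quasi_of_h1 hjh1)) hCj
  -- the exterior powers
  have hCjq : Coh.IsQCoh (Omega.conormal j) := M1.isQCoh_pullback j (M2.isQCoh_idealMod _)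
  haveI := hCjq
  have hΩπ : FlatMod.IsFinLocFreeOfRank m (Omega.sheaf π) :=
    Omega12.isFinLocFreeOfRank_receptacle_of_smooth (f := π) (Omega12.isUniversal_dOmega (f := π)) m
  -- the base change of the second immersion
  let P₂ := CohB1.ProjSpaceOver m Z₂
  let π₂ : P₂ ⟶ Z₂ := CohB1.ProjSpaceOver.toBase m Z₂
  haveI : SmoothOfRelativeDimension m π₂ := smoothDim_toBase m Z₂
  haveI : Smooth π₂ := SmoothOfRelativeDimension.smooth m π₂
  haveI : IsLocallyNoetherian P₂ := LocallyOfFiniteType.isLocallyNoetherian π₂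
  let a : CohB1.ProjSpaceOver m Y ⟶ CohB1.ProjSpace m (ULift.{u} ℤ) := pullback.fst _ _
  let k : CohB1.ProjSpaceOver m Y ⟶ P₂ := pullback.lift a (π ≫ i₂) (by
    rw [show a ≫ CohB1.ProjSpace.toSpec m (ULift.{u} ℤ) = π ≫ specULiftZIsTerminal.from Y from pullback.condition,
      Category.assoc]
    exact congrArg (π ≫ ·) (specULiftZIsTerminal.hom_ext _ _))
  have hkπ : k ≫ π₂ = π ≫ i₂ := pullback.lift_snd _ _ _
  have sqk : IsPullback π k i₂ π₂ := by
    refine (IsPullback.of_right (h₁₂ := (pullback.fst _ _ : P₂ ⟶ CohB1.ProjSpace m (ULift.{u} ℤ)))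
      (h₂₂ := specULiftZIsTerminal.from Z₂) (v₁₃ := CohB1.ProjSpace.toSpec m (ULift.{u} ℤ)) ?_ hkπ
      (IsPullback.of_hasPullback _ _)).flip
    show IsPullback (k ≫ pullback.fst _ _) π _ (i₂ ≫ specULiftZIsTerminal.from Z₂)
    rw [pullback.lift_fst, specULiftZIsTerminal.comp_from]
    exact IsPullback.of_hasPullback _ _
  haveI : IsImmersion k := MorphismProperty.of_isPullback sqk hi₂.1
  haveI : QuasiCompact k := MorphismProperty.of_isPullback sqk ‹QuasiCompact i₂›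
  have hkosz_k : RegImm.IsRegularImmersion .koszul k :=
    RegSeq26.isRegularImmersion_baseChange .koszul i₂ π₂ k π sqk (SmImm2.koszul_of_regular (SmImm2.forget_codim hi₂))
  obtain ⟨φk, hφk, -⟩ := GrMap12.existsUnique_conormalMap (i := k) (i' := i₂) (gZ := π) (g := π₂) sqk.w
  haveI : IsIso φk := (GrMap12.epi_and_isIso_of_isPullback sqk hφk).2 inferInstance
  have hC₂ := SmImm2.isFinLocFreeOfRank_conormal i₂ hi₂
  have hC₂q : Coh.IsQCoh (Omega.conormal i₂) := M2.isQCoh_of_isFinLocFree (SmImm2.isFinLocFree_of_rank hC₂)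
  let φ' : (Scheme.Modules.pullback f).obj (Omega.conormal i₂) ≅ (Scheme.Modules.pullback j).obj (Omega.conormal k) :=
    (Scheme.Modules.pullbackCongr hj.symm).app _ ≪≫ ((Scheme.Modules.pullbackComp j π).app _).symm ≪≫
      (Scheme.Modules.pullback j).mapIso (asIso φk)
  -- the conormal sheaf of the composite
  let j₂ : X ⟶ P₂ := j ≫ k
  haveI : IsImmersion j₂ := inferInstanceAs (IsImmersion (j ≫ k))
  haveI : QuasiCompact j₂ := inferInstanceAs (QuasiCompact (j ≫ k))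
  obtain ⟨α, hα, -⟩ := GrMap12.existsUnique_conormalMap (i := j ≫ k) (i' := k) (gZ := j) (g := 𝟙 P₂)
    (Category.comp_id _).symm
  obtain ⟨β, hβ, -⟩ := GrMap12.existsUnique_conormalMap (i := j) (i' := j ≫ k) (gZ := 𝟙 X) (g := k) (Category.id_comp _)
  obtain ⟨-, hses, -⟩ := S8919.result j k α hα β hβ hjh1
  let T : ShortComplex X.Modules := ShortComplex.mk α _ (S8919.result j k α hα β hβ hjh1).1
  have hT : T.ShortExact := hses _
  have hT₁ : FlatMod.IsFinLocFreeOfRank c₂ T.X₁ :=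
    M2.isFinLocFreeOfRank_of_iso φ' (SmImm2.isFinLocFreeOfRank_pullback hC₂ f)
  have hT₂q : Coh.IsQCoh T.X₂ := M1.isQCoh_pullback j₂ (M2.isQCoh_idealMod _)
  have hT₂ : FlatMod.IsFinLocFreeOfRank (c₂ + cj) T.X₂ := DetSES2.isFinLocFreeOfRank_middle T hT hT₂q hT₁ hCj
  have hreg₂ : RegImm.IsRegularImmersionOfCodim .regular (c₂ + cj) j₂ :=
    SmImm2.isRegularImmersionOfCodim_of_rank j₂ ((RegImm26.regular_iff_quasi j₂).2
      (SmImm2.quasi_of_h1 (SmImm2.h1_of_koszul (S8654.result k j hkosz_k hkosz)))) hT₂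
  have hDj := Wedge2.isExtPow_extMod cj (Omega.conormal j)
  let Dj := Wedge2.extMod cj (Omega.conormal j)
  let fD₂ := (Scheme.Modules.pullback f).obj D₂
  have hfD₂ : ExtPow.IsExtPow c₂ T.X₁ fD₂ :=
    Wedge2.isExtPow_of_iso φ' (Iso.refl _) (Wedge2.isExtPow_pullback' f hC₂q hD₂)
  have ij := Wedge2.isInvertible_top hCj hDj
  have iD := Wedge2.isInvertible_top hT₁ hfD₂
  have hDC : ExtPow.IsExtPow (c₂ + cj) (Omega.conormal j₂) (CohB1.tensorMod fD₂ Dj) :=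
    DetSES2.isExtPow_tensor_middle T hT rfl hT₁ (SmImm2.isFinLocFree_of_rank hT₂) hCj hfD₂ hDj
      (M2.isFinLocFree_of_isInvertible iD) (M2.isFinLocFree_of_isInvertible ij)
  -- the differentials of the ambient space
  let g' : P₂ ⟶ Z := π₂ ≫ g₂
  obtain ⟨S, hS, ⟨eS⟩, hS₂, hS₃, hSr⟩ := SmImm2.exists_ses_comp π₂ g₂ (m := m) (n := n₂)
  have hΩ₂ : FlatMod.IsFinLocFreeOfRank n₂ (Omega.sheaf g₂) :=
    Omega12.isFinLocFreeOfRank_receptacle_of_smooth (f := g₂) (Omega12.isUniversal_dOmega (f := g₂)) n₂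
  have hΩπ₂ : FlatMod.IsFinLocFreeOfRank m (Omega.sheaf π₂) :=
    Omega12.isFinLocFreeOfRank_receptacle_of_smooth (f := π₂) (Omega12.isUniversal_dOmega (f := π₂)) m
  haveI hΩπ₂q : Coh.IsQCoh (Omega.sheaf π₂) := M2.isQCoh_of_isFinLocFree (SmImm2.isFinLocFree_of_rank hΩπ₂)
  let M₂ := Wedge2.extMod m (Omega.sheaf π₂)
  have hM₂ := Wedge2.isExtPow_extMod m (Omega.sheaf π₂)
  let pW₂ := (Scheme.Modules.pullback π₂).obj W₂
  have hS₁ : FlatMod.IsFinLocFreeOfRank n₂ S.X₁ :=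
    M2.isFinLocFreeOfRank_of_iso eS.symm (SmImm2.isFinLocFreeOfRank_pullback hΩ₂ π₂)
  have hpW₂ : ExtPow.IsExtPow n₂ S.X₁ pW₂ := Wedge2.isExtPow_of_iso eS.symm (Iso.refl _)
    (Wedge2.isExtPow_pullback' π₂ (M2.isQCoh_of_isFinLocFree (SmImm2.isFinLocFree_of_rank hΩ₂)) hW₂)
  have hDΩ : ExtPow.IsExtPow (m + n₂) (Omega.sheaf g') (CohB1.tensorMod pW₂ M₂) := by
    show ExtPow.IsExtPow (m + n₂) (Omega.sheaf (π₂ ≫ g₂)) _
    rw [← hS₂]
    exact DetSES2.isExtPow_tensor_middle S hS (Nat.add_comm _ _) hS₁ (SmImm2.isFinLocFree_of_rank hSr)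
      (hS₃.symm ▸ hΩπ₂) hpW₂ (hS₃.symm ▸ hM₂)
      (M2.isFinLocFree_of_isInvertible (Wedge2.isInvertible_top hS₁ hpW₂))
      (M2.isFinLocFree_of_isInvertible (Wedge2.isInvertible_top hΩπ₂ hM₂))
  -- the canonical sheaf of `f` through `j`
  let M := (Scheme.Modules.pullback k).obj M₂
  have hM : ExtPow.IsExtPow m (Omega.sheaf π) M := S15539.result _ _ _ _ π₂ π k i₂ sqk.flip m M₂ hM₂
  obtain ⟨Dj', -, ⟨t⟩⟩ := M2.exists_inverse ij
  let jM := (Scheme.Modules.pullback j).obj M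
  have hvia₁' : Canon.IsCanonicalVia j π cj m (CohB1.tensorMod jM Dj') :=
    ⟨Dj, M, hDj, hM, ⟨M2.tensorAssoc jM Dj' Dj ≪≫ M2.tensorIso (Iso.refl jM) (M2.tensorComm Dj' Dj ≪≫ t) ≪≫
      M2.tensorComm jM _ ≪≫ M2.tensorLUnit jM⟩⟩
  obtain ⟨e₁⟩ := SmImm2.nonempty_iso_of_isCanonicalVia i₁ g₁ j π hjw hi₁ hjc hvia₁ hvia₁'
  let b₁ : CohB1.tensorMod ω₁ Dj ≅ jM := M2.tensorIso e₁ (Iso.refl Dj) ≪≫ M2.tensorAssoc jM Dj' Dj ≪≫
    M2.tensorIso (Iso.refl jM) (M2.tensorComm Dj' Dj ≪≫ t) ≪≫ M2.tensorComm jM _ ≪≫ M2.tensorLUnit jM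
  let fω₂ := (Scheme.Modules.pullback f).obj ω₂
  have hcomp : j₂ ≫ π₂ = f ≫ i₂ := by rw [Category.assoc, hkπ, ← Category.assoc, hj]
  let fW₂ : (Scheme.Modules.pullback f).obj ((Scheme.Modules.pullback i₂).obj W₂) ≅
      (Scheme.Modules.pullback j₂).obj pW₂ :=
    (Scheme.Modules.pullbackComp f i₂).app W₂ ≪≫ (Scheme.Modules.pullbackCongr hcomp.symm).app W₂ ≪≫
      ((Scheme.Modules.pullbackComp j₂ π₂).app W₂).symm
  let b₂ : CohB1.tensorMod fω₂ fD₂ ≅ (Scheme.Modules.pullback j₂).obj pW₂ :=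
    (M2.pullTensorIso f ω₂ D₂).symm ≪≫ (Scheme.Modules.pullback f).mapIso a₂ ≪≫ fW₂
  let b₃ : jM ≅ (Scheme.Modules.pullback j₂).obj M₂ := (Scheme.Modules.pullbackComp j k).app M₂
  have hvia : Canon.IsCanonicalVia j₂ g' (c₂ + cj) (m + n₂) (CohB1.tensorMod ω₁ fω₂) :=
    ⟨CohB1.tensorMod fD₂ Dj, CohB1.tensorMod pW₂ M₂, hDC, hDΩ,
      ⟨shuffle ω₁ fω₂ fD₂ Dj ≪≫ M2.tensorComm _ _ ≪≫ M2.tensorIso b₂ (b₁ ≪≫ b₃) ≪≫
        (M2.pullTensorIso j₂ pW₂ M₂).symm⟩⟩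
  haveI : SmoothOfRelativeDimension (m + n₂) g' := inferInstanceAs (SmoothOfRelativeDimension _ (π₂ ≫ g₂))
  haveI : QuasiSeparated g' := inferInstanceAs (QuasiSeparated (π₂ ≫ g₂))
  refine ⟨P₂, j₂, g', c₂ + cj, m + n₂, ?_, hreg₂, inferInstance, inferInstance, inferInstance, hvia⟩
  rw [← hfac₂]; show j₂ ≫ π₂ ≫ g₂ = f ≫ i₂ ≫ g₂; rw [← Category.assoc j₂, hcomp, Category.assoc]

end Groth.Agent.AdjArith15
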