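import Groth.Agent.Lib.AdjArith15.Comp
import Groth.Agent.Lib.SecDiv18.Basic
import Groth.Agent.Lib.ExtFil4.Uniq
import Groth.Agent.Lib.TensorMod.InvCrit
import Groth.Agent.Lib.SmImm2.Compare
import Groth.Prelude.Def_Canon

/-! Canonical sheaves of effective Cartier divisors. -/

set_option autoImplicit false
set_option backward.isDefEq.respectTransparency false
set_option backward.isDefEq.respectTransparency.types false
set_option synthInstance.maxHeartbeats 400000
universe u
open CategoryTheory CategoryTheory.Limits AlgebraicGeometry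

namespace Groth.Agent.AdjArith15

open Groth.Agent

/-- A finite locally free module on a one point scheme is free. -/
theorem exists_iso_freeMod_of_point {Y : Scheme.{u}} [Subsingleton Y] [Nonempty Y] {G : Y.Modules}
    (hG : FlatMod.IsFinLocFree G) : ∃ r, Nonempty (G ≅ FlatMod.freeMod Y r) := by
  obtain ⟨U, r, hx, ⟨i⟩⟩ := hG (Classical.arbitrary Y)
  obtain rfl : U = ⊤ := eq_top_iff.2 fun y _ => (Subsingleton.elim y _) ▸ hx
  refine ⟨r, ⟨((Scheme.Modules.pullbackId _).app G).symm ≪≫
    ((Scheme.Modules.pullbackCongr (show (Scheme.topIso Y).inv ≫ (⊤ : Y.Opens).ι = 𝟙 Y from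
      (Scheme.topIso Y).inv_hom_id)).app G).symm ≪≫
    ((Scheme.Modules.pullbackComp (Scheme.topIso Y).inv (⊤ : Y.Opens).ι).app G).symm ≪≫
    (Scheme.Modules.pullback (Scheme.topIso Y).inv).mapIso
      (((Scheme.Modules.restrictFunctorIsoPullback _).app G).symm ≪≫ i) ≪≫
    M2.freeModPullbackIso _ r⟩⟩

/-- An invertible module on a point is trivial. -/
theorem nonempty_iso_structureModule_of_point {Y : Scheme.{u}} [Subsingleton Y] [Nonempty Y] {L : Y.Modules}
    (hL : PicF.IsInvertible L) : Nonempty (L ≅ Coh.structureModule Y) := by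
  obtain ⟨a, ⟨φ⟩⟩ := exists_iso_freeMod_of_point (M2.isFinLocFree_of_isInvertible hL)
  obtain rfl : a = 1 := SmImm2.rank_eq_of_nonempty
    (M2.isFinLocFreeOfRank_of_iso φ.symm (M2.isFinLocFreeOfRank_freeMod Y a))
    ((M2.isInvertible_iff_isFinLocFreeOfRank_one L).1 hL)
  exact ⟨φ ≪≫ coproductUniqueIso _⟩

/-- The structure map of `P^0` has a section. -/
theorem exists_hom_projSpace_zero (S : Scheme.{u}) :
    ∃ i : S ⟶ CohB1.ProjSpaceOver 0 S, i ≫ CohB1.ProjSpaceOver.toBase 0 S = 𝟙 S := by
  let 𝒜 := CohB1.polyGrading 0 (ULift.{u} ℤ)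
  let x : MvPolynomial (Fin 1) (ULift.{u} ℤ) := MvPolynomial.X 0
  have hx : x ∈ 𝒜 1 := MvPolynomial.isHomogeneous_X _ _
  let φ : HomogeneousLocalization.Away 𝒜 x →+* ULift.{u} ℤ :=
    (IsLocalization.Away.lift (S := Localization.Away x) x
      (g := (MvPolynomial.eval fun _ => (1 : ULift.{u} ℤ))) (by simp [x])).comp
      (algebraMap (HomogeneousLocalization.Away 𝒜 x) (Localization.Away x))
  let g : S ⟶ CohB1.ProjSpace 0 (ULift.{u} ℤ) :=
    specULiftZIsTerminal.from S ≫ Spec.map (CommRingCat.ofHom φ) ≫ Proj.awayι 𝒜 x hx zero_lt_one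
  exact ⟨pullback.lift g (𝟙 S) (specULiftZIsTerminal.hom_ext _ _), pullback.lift_snd _ _ _⟩


/-- An invertible ideal gives a regular immersion of codimension one. -/
theorem isRegularImmersion_one {X D : Scheme.{u}} (i : D ⟶ X) [IsClosedImmersion i]
    (hI : PicF.IsInvertible (ClSub.idealMod i.ker)) :
    RegImm.IsRegularImmersionOfCodim RegImm.Kind.regular 1 i := by
  refine ⟨inferInstance, fun z => ?_⟩
  obtain ⟨U, hU, f, hf, e'⟩ := SecDiv.isEffCartierIdeal_of_isInvertible i.ker hI (i z)
  have e := (Scheme.Hom.ker_apply i U).symm.trans e'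
  refine ⟨U, hU, IsZariskiLocalAtTarget.restrict (P := @IsClosedImmersion) ‹_› U.1, [f], rfl, ?_,
    e.trans (Ideal.ofList_singleton f).symm⟩
  refine ⟨(RingTheory.Sequence.isWeaklyRegular_singleton_iff _ f).2
    (IsLeftRegular.isSMulRegular (isRegular_iff_mem_nonZeroDivisors.2 hf).left), fun htop => ?_⟩
  rw [Ideal.ofList_singleton, ← e, Ideal.smul_eq_mul, Ideal.mul_top] at htop
  have h1 : (1 : Γ(X, U.1)) ∈ RingHom.ker (i.app U.1).hom := htop ▸ Submodule.mem_top
  rw [RingHom.mem_ker, map_one] at h1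
  haveI : Nonempty (i ⁻¹ᵁ U.1) := ⟨⟨z, hU⟩⟩
  exact one_ne_zero h1

/-- The inverse of the ideal sheaf, restricted, is a canonical sheaf of the divisor. -/
theorem isCanonical_divisor {X D : Scheme.{u}} (i : D ⟶ X) [IsClosedImmersion i] (L : X.Modules)
    (hL : ClSub.IsInverseOf L (ClSub.idealMod i.ker)) :
    Canon.IsCanonical i ((Scheme.Modules.pullback i).obj L) := by
  obtain ⟨e⟩ := hL
  have hI : PicF.IsInvertible (ClSub.idealMod i.ker) :=
    M2.isInvertible_of_tensor_iso_unit _ L (M2.tensorComm _ _ ≪≫ e)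
  refine ⟨X, i, 𝟙 X, 1, 0, Category.comp_id i, isRegularImmersion_one i hI, inferInstance, inferInstance,
    inferInstance, Omega.conormal i, Coh.structureModule X, ExtFil4.isExtPow_one _, ExtFil4.isExtPow_zero _, ⟨?_⟩⟩
  exact (M2.pullTensorIso i L (ClSub.idealMod i.ker)).symm ≪≫ (Scheme.Modules.pullback i).mapIso e

/-- Immersions over a base are quasi-projective. -/
theorem exists_projSpace_of_immersion {X Y : Scheme.{u}} (i : X ⟶ Y) [IsImmersion i] :
    ∃ (m : ℕ) (j : X ⟶ CohB1.ProjSpaceOver m Y),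
      IsImmersion j ∧ j ≫ CohB1.ProjSpaceOver.toBase m Y = i := by
  obtain ⟨s, hs⟩ := exists_hom_projSpace_zero Y
  refine ⟨0, i ≫ s, ?_, by rw [Category.assoc, hs, Category.comp_id]⟩
  have : IsImmersion ((i ≫ s) ≫ CohB1.ProjSpaceOver.toBase 0 Y) := by
    rw [Category.assoc, hs, Category.comp_id]; infer_instance
  exact IsImmersion.of_comp (i ≫ s) (CohB1.ProjSpaceOver.toBase 0 Y)

/-- The residue field of a discrete valuation ring has trivial canonical sheaf. -/
theorem isCanonical_residue (R : Type u) [CommRing R] [IsDomain R] [IsDiscreteValuationRing R] :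
    Canon.IsCanonical (Spec.map (CommRingCat.ofHom (IsLocalRing.residue R)))
      (Coh.structureModule (Spec (CommRingCat.of (IsLocalRing.ResidueField R)))) := by
  let π := Spec.map (CommRingCat.ofHom (IsLocalRing.residue R))
  haveI : IsClosedImmersion π := IsClosedImmersion.spec_of_surjective _ Ideal.Quotient.mk_surjective
  obtain ⟨ϖ, hϖ⟩ := IsDiscreteValuationRing.exists_irreducible R
  have hreg : RegImm.IsRegularImmersionOfCodim .regular 1 π := by
    refine ⟨inferInstance, fun z => ?_⟩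
    refine ⟨⟨⊤, isAffineOpen_top _⟩, trivial, IsZariskiLocalAtTarget.restrict (P := @IsClosedImmersion) ‹_› _,
      [(Scheme.ΓSpecIso (CommRingCat.of R)).inv ϖ], rfl, ?_, ?_⟩
    · refine ⟨(RingTheory.Sequence.isWeaklyRegular_singleton_iff _ _).2
        (IsLeftRegular.isSMulRegular ?_), fun h => ?_⟩
      · refine (isRegular_of_ne_zero ?_).left
        intro h0
        exact hϖ.ne_zero ((Scheme.ΓSpecIso (CommRingCat.of R)).commRingCatIsoToRingEquiv.symm.injective
          (h0.trans (map_zero _).symm))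
      · rw [Ideal.ofList_singleton, Ideal.smul_eq_mul, Ideal.mul_top] at h
        have hu := Ideal.span_singleton_eq_top.1 h.symm
        exact hϖ.not_isUnit ((isUnit_map_iff
          (Scheme.ΓSpecIso (CommRingCat.of R)).commRingCatIsoToRingEquiv.symm ϖ).1 hu)
    · have hn : π.appTop.hom.comp (Scheme.ΓSpecIso (CommRingCat.of R)).inv.hom =
          (Scheme.ΓSpecIso (CommRingCat.of (IsLocalRing.ResidueField R))).inv.hom.comp (IsLocalRing.residue R) := by
        rw [← CommRingCat.hom_comp, ← Scheme.ΓSpecIso_inv_naturality, CommRingCat.hom_comp, CommRingCat.hom_ofHom]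
      rw [Ideal.ofList_singleton]
      ext x
      obtain ⟨y, rfl⟩ := (Scheme.ΓSpecIso (CommRingCat.of R)).commRingCatIsoToRingEquiv.symm.surjective x
      rw [RingHom.mem_ker, Ideal.mem_span_singleton]
      show π.appTop.hom ((Scheme.ΓSpecIso (CommRingCat.of R)).inv.hom y) = 0 ↔ _
      have hinj : ∀ t, (Scheme.ΓSpecIso (CommRingCat.of (IsLocalRing.ResidueField R))).inv.hom t = 0 ↔ t = 0 :=
        fun t => map_eq_zero_iff
          (Scheme.ΓSpecIso (CommRingCat.of (IsLocalRing.ResidueField R))).commRingCatIsoToRingEquiv.symm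
          (RingEquiv.injective _)
      rw [← RingHom.comp_apply, hn, RingHom.comp_apply, hinj, IsLocalRing.residue_eq_zero_iff, hϖ.maximalIdeal_eq, Ideal.mem_span_singleton]
      exact (map_dvd_iff (Scheme.ΓSpecIso (CommRingCat.of R)).commRingCatIsoToRingEquiv.symm).symm
  have hC : PicF.IsInvertible (Omega.conormal π) :=
    (M2.isInvertible_iff_isFinLocFreeOfRank_one _).2 (SmImm2.isFinLocFreeOfRank_conormal π hreg)
  haveI : Subsingleton ↥(Spec (CommRingCat.of (IsLocalRing.ResidueField R))) :=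
    inferInstanceAs (Subsingleton (PrimeSpectrum (IsLocalRing.ResidueField R)))
  obtain ⟨a⟩ := nonempty_iso_structureModule_of_point hC
  refine ⟨_, π, 𝟙 _, 1, 0, Category.comp_id π, hreg, inferInstance, inferInstance, inferInstance,
    Omega.conormal π, Coh.structureModule _, ExtFil4.isExtPow_one _, ExtFil4.isExtPow_zero _, ⟨?_⟩⟩
  exact M2.tensorLUnit _ ≪≫ a ≪≫ (asIso (SheafOfModules.pullbackObjUnitToUnit π.toRingCatSheafHom)).symm

end Groth.Agent.AdjArith15
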