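import Groth.Agent.Lib.ExtFil4.Uniq
import Groth.Agent.Lib.Omega12.BaseChange
import Groth.Agent.Lib.Omega12.Exists
import Groth.Agent.Lib.ModLimH13.Hom1
import Groth.Agent.Lib.LocCoh.Restrict
import Groth.Agent.Lib.AdjArith15.Div

/-! Restriction of differentials and ideal modules to opens. -/

set_option autoImplicit false
set_option linter.style.haveILetI false
set_option backward.isDefEq.respectTransparency false
set_option backward.isDefEq.respectTransparency.types false
set_option maxHeartbeats 800000
universe u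
open CategoryTheory CategoryTheory.Limits AlgebraicGeometry TopologicalSpace Opposite

noncomputable section

namespace Groth.Agent.OpenRes15
open Groth.Agent

section alg

variable {R R' : Type u} [CommRing R] [CommRing R'] (σ : R ≃+* R')
  {M M' : Type u} [AddCommGroup M] [Module R M] [AddCommGroup M'] [Module R' M']

/-- Exterior powers of semilinearly equivalent modules. -/
theorem exists_extPow_semilinear (e : M ≃+ M') (he : ∀ r m, e (r • m) = σ r • e m) (i : ℕ) :
    ∃ F : ↥(⋀[R]^i M) ≃+ ↥(⋀[R']^i M'), (∀ r x, F (r • x) = σ r • F x) ∧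
      ∀ v : Fin i → M, F (exteriorPower.ιMulti R i v) = exteriorPower.ιMulti R' i fun j => e (v j) := by
  classical
  letI : Module R M' := Module.compHom M' σ.toRingHom
  letI : Module R ↥(⋀[R']^i M') := Module.compHom _ σ.toRingHom
  letI : Module R' M := Module.compHom M σ.symm.toRingHom
  letI : Module R' ↥(⋀[R]^i M) := Module.compHom _ σ.symm.toRingHom
  have he' : ∀ r' m', e.symm (r' • m') = σ.symm r' • e.symm m' := fun r' m' => e.injective (by
    rw [he, e.apply_symm_apply, e.apply_symm_apply, σ.apply_symm_apply])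
  let a : M [⋀^Fin i]→ₗ[R] ↥(⋀[R']^i M') :=
    { toFun := fun v => exteriorPower.ιMulti R' i fun j => e (v j)
      map_update_add' := fun {inst} v j x y => by
        have h : ∀ z, (fun l => e (Function.update v j z l)) = Function.update (fun l => e (v l)) j (e z) :=
          fun z => funext fun l => Function.apply_update (fun _ => e) v j z l
        simp only [h, map_add, AlternatingMap.map_update_add]
      map_update_smul' := fun {inst} v j r x => by
        have h : ∀ z, (fun l => e (Function.update v j z l)) = Function.update (fun l => e (v l)) j (e z) :=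
          fun z => funext fun l => Function.apply_update (fun _ => e) v j z l
        simp only [h, he, AlternatingMap.map_update_smul]
        rfl
      map_eq_zero_of_eq' := fun v p q h hne =>
        (exteriorPower.ιMulti R' i).map_eq_zero_of_eq _ (congrArg e h) hne }
  let b : M' [⋀^Fin i]→ₗ[R'] ↥(⋀[R]^i M) :=
    { toFun := fun v => exteriorPower.ιMulti R i fun j => e.symm (v j)
      map_update_add' := fun {inst} v j x y => by
        have h : ∀ z, (fun l => e.symm (Function.update v j z l)) =
            Function.update (fun l => e.symm (v l)) j (e.symm z) :=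
          fun z => funext fun l => Function.apply_update (fun _ => e.symm) v j z l
        simp only [h, map_add, AlternatingMap.map_update_add]
      map_update_smul' := fun {inst} v j r x => by
        have h : ∀ z, (fun l => e.symm (Function.update v j z l)) =
            Function.update (fun l => e.symm (v l)) j (e.symm z) :=
          fun z => funext fun l => Function.apply_update (fun _ => e.symm) v j z l
        simp only [h, he', AlternatingMap.map_update_smul]
        rfl
      map_eq_zero_of_eq' := fun v p q h hne =>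
        (exteriorPower.ιMulti R i).map_eq_zero_of_eq _ (congrArg e.symm h) hne }
  let A := exteriorPower.alternatingMapLinearEquiv a
  let B := exteriorPower.alternatingMapLinearEquiv b
  have hA : ∀ r x, A (r • x) = σ r • A x := fun r x => map_smul A r x
  have hB : ∀ r' x, B (r' • x) = σ.symm r' • B x := fun r' x => map_smul B r' x
  have hAB : ∀ x, B (A x) = x := fun x => by
    have hx : x ∈ Submodule.span R (Set.range (exteriorPower.ιMulti R i (M := M))) := by
      rw [exteriorPower.ιMulti_span]; trivial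
    induction hx using Submodule.span_induction with
    | zero => rw [map_zero, map_zero]
    | add c d _ _ hc hd => rw [map_add, map_add, hc, hd]
    | smul c d _ hd => rw [hA, hB, σ.symm_apply_apply, hd]
    | mem c hc =>
      obtain ⟨v, rfl⟩ := hc
      simp only [A, B, exteriorPower.alternatingMapLinearEquiv_apply_ιMulti]
      show B (exteriorPower.ιMulti R' i fun j => e (v j)) = _
      simp only [B, exteriorPower.alternatingMapLinearEquiv_apply_ιMulti]
      show exteriorPower.ιMulti R i (fun j => e.symm (e (v j))) = _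
      simp only [e.symm_apply_apply]
  have hBA : ∀ x, A (B x) = x := fun x => by
    have hx : x ∈ Submodule.span R' (Set.range (exteriorPower.ιMulti R' i (M := M'))) := by
      rw [exteriorPower.ιMulti_span]; trivial
    induction hx using Submodule.span_induction with
    | zero => rw [map_zero, map_zero]
    | add c d _ _ hc hd => rw [map_add, map_add, hc, hd]
    | smul c d _ hd => rw [hB, hA, σ.apply_symm_apply, hd]
    | mem c hc =>
      obtain ⟨v, rfl⟩ := hc
      simp only [A, B, exteriorPower.alternatingMapLinearEquiv_apply_ιMulti]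
      show A (exteriorPower.ιMulti R i fun j => e.symm (v j)) = _
      simp only [A, exteriorPower.alternatingMapLinearEquiv_apply_ιMulti]
      show exteriorPower.ιMulti R' i (fun j => e (e.symm (v j))) = _
      simp only [e.apply_symm_apply]
  exact ⟨{ toFun := A, invFun := B, left_inv := hAB, right_inv := hBA, map_add' := map_add A }, hA, fun v => by
    show A _ = _
    simp only [A, exteriorPower.alternatingMapLinearEquiv_apply_ιMulti]
    rfl⟩

/-- Transport of an exterior power along semilinear equivalences. -/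
theorem exists_transport {N N' : Type u} [AddCommGroup N] [Module R N] [AddCommGroup N'] [Module R' N']
    (e : M ≃+ M') (he : ∀ r m, e (r • m) = σ r • e m) (b : N ≃+ N') (hb : ∀ r m, b (r • m) = σ r • b m)
    {i : ℕ} (φ : N ≃ₗ[R] ↥(⋀[R]^i M)) :
    ∃ ψ : N' ≃ₗ[R'] ↥(⋀[R']^i M'), ∀ v : Fin i → M',
      ψ.symm (exteriorPower.ιMulti R' i v) = b (φ.symm (exteriorPower.ιMulti R i fun j => e.symm (v j))) := by
  obtain ⟨F, hFs, hF⟩ := exists_extPow_semilinear σ e he i
  refine ⟨{ (b.symm.trans φ.toAddEquiv).trans F with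
    map_smul' := fun r' n => ?_ }, fun v => ?_⟩
  · show F (φ (b.symm (r' • n))) = r' • F (φ (b.symm n))
    have h1 : b.symm (r' • n) = σ.symm r' • b.symm n :=
      b.injective (by rw [hb, b.apply_symm_apply, b.apply_symm_apply, σ.apply_symm_apply])
    rw [h1, map_smul, hFs, σ.apply_symm_apply]
  · show b (φ.symm (F.symm _)) = _
    congr 2
    rw [AddEquiv.symm_apply_eq, hF]
    simp only [e.apply_symm_apply]

end alg

variable {X X' : Scheme.{u}} {i : ℕ} {E L : X.Modules}

theorem smul_restrict (f : X' ⟶ X) [IsOpenImmersion f] (M : X.Modules) (U : X'.Opens) (r : Γ(X', U))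
    (m : Γ((Scheme.Modules.restrictFunctor f).obj M, U)) :
    (r • m : Γ((Scheme.Modules.restrictFunctor f).obj M, U)) =
      (((f.appIso U).inv r) • (show Γ(M, f ''ᵁ U) from m) : Γ(M, f ''ᵁ U)) := rfl

/-- Exterior powers restrict along open immersions. -/
theorem isExtPow_restrict (h : ExtPow.IsExtPow i E L) (f : X' ⟶ X) [IsOpenImmersion f] :
    ExtPow.IsExtPow i ((Scheme.Modules.restrictFunctor f).obj E) ((Scheme.Modules.restrictFunctor f).obj L) := by
  obtain ⟨φ, hφ⟩ := h
  let img : X'.affineOpens → X.affineOpens := fun U => ⟨f ''ᵁ U.1, U.2.image_of_isOpenImmersion f⟩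
  let σ : ∀ U : X'.affineOpens, Γ(X, (img U).1) ≃+* Γ(X', U.1) := fun U => (f.appIso U.1).commRingCatIsoToRingEquiv
  have hsem : ∀ (M : X.Modules) (U : X'.affineOpens) (r : Γ(X, (img U).1)) (m : Γ(M, (img U).1)),
      (M.restrictAppIso f U.1).symm.addCommGroupIsoToAddEquiv (r • m) =
        σ U r • (M.restrictAppIso f U.1).symm.addCommGroupIsoToAddEquiv m := fun M U r m =>
    Scheme.Modules.smul_restrictAppIso_inv_apply f M U.1 r m
  choose ψ hψ using fun U : X'.affineOpens => exists_transport (σ U) _ (hsem E U) _ (hsem L U) (φ (img U))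
  refine ⟨ψ, fun U V hVU e => ?_⟩
  refine Eq.trans (congrArg _ (hψ U e)) (Eq.trans ?_ (hψ V _).symm)
  exact hφ (img U) (img V) (f.image_mono hVU) e

/-- The equivalence of sections of an isomorphism. -/
def secEquiv {M N : X.Modules} (a : M ≅ N) (U : X.Opens) : Γ(M, U) ≃+ Γ(N, U) where
  toFun := a.hom.app U
  invFun := a.inv.app U
  left_inv m := (congrArg (fun t => t.app U m) a.hom_inv_id :)
  right_inv m := (congrArg (fun t => t.app U m) a.inv_hom_id :)
  map_add' := map_add _

theorem secEquiv_smul {M N : X.Modules} (a : M ≅ N) (U : X.Opens) (r : Γ(X, U)) (m : Γ(M, U)) :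
    secEquiv a U (r • m) = RingEquiv.refl Γ(X, U) r • secEquiv a U m :=
  Scheme.Modules.Hom.app_smul a.hom r m

/-- Exterior powers are invariant under isomorphisms. -/
theorem isExtPow_of_iso {E' L' : X.Modules} (h : ExtPow.IsExtPow i E L) (a : E ≅ E') (b : L ≅ L') :
    ExtPow.IsExtPow i E' L' := by
  obtain ⟨φ, hφ⟩ := h
  choose ψ hψ using fun U : X.affineOpens => exists_transport (RingEquiv.refl Γ(X, U.1)) (secEquiv a U.1)
    (secEquiv_smul a U.1) (secEquiv b U.1) (secEquiv_smul b U.1) (φ U)
  refine ⟨ψ, fun U V hVU e => ?_⟩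
  refine Eq.trans (congrArg _ (hψ U e)) (Eq.trans ?_ (hψ V _).symm)
  refine Eq.trans (M1.app_mres b.hom hVU _).symm ?_
  refine congrArg (fun t => b.hom.app V.1 t) ((hφ U V hVU _).trans ?_)
  refine congrArg (fun t => (φ V).symm (exteriorPower.ιMulti _ i t)) (funext fun j => ?_)
  exact (M1.app_mres a.inv hVU (e j)).symm


/-- Differentials restrict to open subschemes. -/
theorem nonempty_omega_restrict {P S : Scheme.{u}} (g : P ⟶ S) (V : P.Opens) [QuasiSeparated g]
    [QuasiSeparated (V.ι ≫ g)] [Smooth g] [Smooth (V.ι ≫ g)] :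
    Nonempty ((Scheme.Modules.restrictFunctor V.ι).obj (Omega.sheaf g) ≅ Omega.sheaf (V.ι ≫ g)) := by
  have hd := Omega12.isUniversal_dOmega (f := g)
  have hd' := Omega12.isUniversal_dOmega (f := V.ι ≫ g)
  obtain ⟨c, hc, -⟩ := Omega12.existsUnique_diffCompat (h := V.ι) (b := 𝟙 S) (f' := V.ι ≫ g) (f := g)
    (by simp) hd (OmegaSh.dOmega (V.ι ≫ g))
  haveI := Omega12.isIso_diffCompat_of_etale (h := V.ι) (b := 𝟙 S) (by simp) hd hd' c hc
  exact ⟨(Scheme.Modules.restrictFunctorIsoPullback V.ι).app _ ≪≫ asIso c⟩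

/-- The kernel of a restricted closed immersion. -/
theorem ker_restrict {X Y : Scheme.{u}} (f : Y ⟶ X) [IsClosedImmersion f] (U : X.Opens) :
    (f ∣_ U).ker = f.ker.comap U.ι := by
  let e := (isPullback_morphismRestrict f U).isoPullback
  rw [← Scheme.IdealSheafData.ker_fst_of_isClosedImmersion, ← Scheme.Hom.ker_comp_of_isIso e.hom,
    IsPullback.isoPullback_hom_fst]

/-- The ideal module of a restricted closed immersion is the restriction of the ideal module. -/
theorem nonempty_idealMod_restrict {X Y : Scheme.{u}} (f : Y ⟶ X) [IsClosedImmersion f] (U : X.Opens) :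
    Nonempty ((ClSub.idealMod f.ker).restrict U.ι ≅ ClSub.idealMod (f ∣_ U).ker) := by
  let I := f.ker
  let K := (f ∣_ U).ker
  let G := (ClSub.idealMod I).restrict U.ι
  let φ : G ⟶ Coh.structureModule (U : Scheme.{u}) :=
    (Scheme.Modules.restrictFunctor U.ι).map (ClSub.idealModι I) ≫ (Scheme.Modules.restrictUnitIso U.ι).hom
  let σ : ∀ W : (U : Scheme.{u}).Opens, Γ(G, W) → Γ(ClSub.idealMod I, U.ι ''ᵁ W) := fun W s =>
    ((ClSub.idealMod I).restrictAppIso U.ι W).hom s
  have hφ : ∀ (W : (U : Scheme.{u}).Opens) (s : Γ(G, W)),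
      φ.app W s = (U.ι.appIso W).hom (M2.idealIncl I (σ W s)) := fun W s => rfl
  have hK : ∀ (W : (U : Scheme.{u}).affineOpens) (z : Γ(X, U.ι ''ᵁ W.1)),
      (U.ι.appIso W.1).hom z ∈ K.ideal W ↔ z ∈ I.ideal ⟨U.ι ''ᵁ W.1, W.2.image_of_isOpenImmersion _⟩ := by
    intro W z
    rw [show K.ideal W = I.ideal ⟨U.ι ''ᵁ W.1, W.2.image_of_isOpenImmersion _⟩ from
      Scheme.ker_morphismRestrict_ideal f U W, Scheme.Opens.ι_appIso]
    rfl
  have hmem : ∀ (W : (U : Scheme.{u}).affineOpens) (s : Γ(G, W.1)),
      φ.app W.1 s ∈ K.ideal W := fun W s => by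
    rw [hφ]
    exact (hK W _).2 ((M2.range_idealIncl I ⟨U.ι ''ᵁ W.1, W.2.image_of_isOpenImmersion _⟩).le ⟨_, rfl⟩)
  have h0 : φ ≫ ClSub.toSubscheme K = 0 := by
    refine ModLimH13.hom_ext_affine _ _ fun x => ⟨⊤, trivial, fun W _ hW s => ?_⟩
    have h := hmem ⟨W, hW⟩ s
    rw [← K.ker_subschemeι, Scheme.Hom.ker_apply] at h
    have h' : K.subschemeι.app W (φ.app W s) = 0 := RingHom.mem_ker.1 h
    exact h'
  let ψ : G ⟶ ClSub.idealMod K := kernel.lift _ φ h0
  have hψ : ∀ (W : (U : Scheme.{u}).Opens) (s : Γ(G, W)), M2.idealIncl K (ψ.app W s) = φ.app W s := fun W s =>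
    congrArg (fun χ : G ⟶ _ => χ.app W s) (kernel.lift_ι _ φ h0)
  haveI hb : ∀ W : (U : Scheme.{u}).affineOpens, Function.Bijective (ψ.app W.1) := by
    intro W
    refine ⟨fun s t hst => ?_, fun t => ?_⟩
    · have h := congrArg (M2.idealIncl K) hst
      rw [hψ, hψ, hφ, hφ] at h
      exact ((ClSub.idealMod I).restrictAppIso U.ι W.1).addCommGroupIsoToAddEquiv.injective
        (M2.idealIncl_injective I _ ((U.ι.appIso W.1).commRingCatIsoToRingEquiv.injective h))
    · have ht : M2.idealIncl K t ∈ K.ideal W := (M2.range_idealIncl K W).le ⟨t, rfl⟩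
      obtain ⟨z, hz⟩ := (U.ι.appIso W.1).commRingCatIsoToRingEquiv.surjective (M2.idealIncl K t)
      obtain ⟨a, ha⟩ := (M2.range_idealIncl I ⟨U.ι ''ᵁ W.1, W.2.image_of_isOpenImmersion _⟩).ge
        ((hK W z).1 (show (U.ι.appIso W.1).hom z ∈ K.ideal W from hz ▸ ht))
      refine ⟨((ClSub.idealMod I).restrictAppIso U.ι W.1).inv a, M2.idealIncl_injective K _ ?_⟩
      rw [hψ, hφ, show σ W.1 (((ClSub.idealMod I).restrictAppIso U.ι W.1).inv a) = a from Iso.inv_hom_id_apply _ a, ha]
      exact hz
  haveI : Mono ψ := M1.mono_of_basis ψ _ (U : Scheme.{u}).isBasis_affineOpens fun W hW => (hb ⟨W, hW⟩).1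
  haveI : Epi ψ := (M1.epi_iff_locally_surjective _).mpr fun V t x hx => by
    obtain ⟨W, hW, hxW, hWV⟩ := exists_isAffineOpen_mem_and_subset hx
    obtain ⟨s, hs⟩ := (hb ⟨W, hW⟩).2 ((ClSub.idealMod K).presheaf.map (homOfLE hWV).op t)
    exact ⟨W, hWV, hxW, s, hs⟩
  haveI : IsIso ψ := isIso_of_mono_of_epi ψ
  exact ⟨asIso ψ⟩


end Groth.Agent.OpenRes15
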